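import Groth.Agent.FDescTensLib.Basic
import Groth.Agent.FlatFunShLib.Basic
import Groth.Agent.RichLib.ModFlatLimit
import Groth.Agent.DepthLib.SkOpen
import Groth.Agent.DepthLib.Codepth
import Groth.Agent.KFlatLib.AffinePull

/-! Flatness of the structure sheaf at points of cartesian squares. -/

set_option autoImplicit false
set_option backward.isDefEq.respectTransparency false
set_option backward.isDefEq.respectTransparency.types false
universe u

open CategoryTheory CategoryTheory.Limits AlgebraicGeometry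

noncomputable section

namespace UnibFlatLib

variable {X Y P Y' : Scheme.{u}}

/-- The structure sheaf is flat over the base at a point. -/
abbrev FlatAt (f : X ⟶ Y) (x : X) : Prop := FlatMod.IsFlatOverAt f (Coh.structureModule X) x

theorem flatAt_iff (f : X ⟶ Y) (x : X) : FlatAt f x ↔ (f.stalkMap x).hom.Flat :=
  DepthLib.isFlatOverAt_structureModule_iff f x

theorem flatAt_pullback_iff (p : P ⟶ X) (q : P ⟶ Y') (z : P) :
    FlatMod.IsFlatOverAt q ((Scheme.Modules.pullback p).obj (Coh.structureModule X)) z ↔ FlatAt q z :=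
  RichLib.ModFlat.isFlatOverAt_iso _ (KFlatLib.pullUnitIso p) z

theorem flatAt_bc {p : P ⟶ X} {q : P ⟶ Y'} {f : X ⟶ Y} {g : Y' ⟶ Y} (sq : IsPullback p q f g) (z : P)
    (h : FlatAt f (p z)) : FlatAt q z :=
  (flatAt_pullback_iff p q z).1 (FDescTensLib.isFlatOverAt_baseChange sq _ z h)

theorem flatAt_descend {p : P ⟶ X} {q : P ⟶ Y'} {f : X ⟶ Y} {g : Y' ⟶ Y} (sq : IsPullback p q f g) [Flat g] (z : P)
    (h : FlatAt q z) : FlatAt f (p z) := by
  haveI : Flat p := MorphismProperty.of_isPullback sq.flip ‹_›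
  exact FlatFunShLib.isFlatOverAt_of_pullback sq.w _ z ((flatAt_pullback_iff p q z).2 h)

theorem flatAt_openImmersion (j : P ⟶ X) [IsOpenImmersion j] (f : X ⟶ Y) (x : P) :
    FlatAt (j ≫ f) x ↔ FlatAt f (j x) :=
  (flatAt_pullback_iff j (j ≫ f) x).symm.trans
    (RichLib.ModFlat.isFlatOverAt_comp_source j f (Coh.structureModule X) x)

theorem exists_pt {p : P ⟶ X} {q : P ⟶ Y'} {f : X ⟶ Y} {g : Y' ⟶ Y} (sq : IsPullback p q f g) (a : X) (b : Y')
    (h : f a = g b) : ∃ w : P, p w = a ∧ q w = b := by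
  obtain ⟨w, h1, h2⟩ := Scheme.Pullback.exists_preimage_pullback a b h
  refine ⟨sq.isoPullback.inv w, ?_, ?_⟩
  · rw [← Scheme.Hom.comp_apply, sq.isoPullback_inv_fst]
    exact h1
  · rw [← Scheme.Hom.comp_apply, sq.isoPullback_inv_snd]
    exact h2

/-- The square over a factorisation of the base change. -/
theorem sq_factor {p : P ⟶ X} {q : P ⟶ Y'} {f : X ⟶ Y} {g : Y' ⟶ Y} {T : Scheme.{u}} {g₀ : T ⟶ Y}
    (sq : IsPullback p q f g) (h : Y' ⟶ T) (hg : h ≫ g₀ = g) :
    ∃ j : P ⟶ pullback f g₀, j ≫ pullback.fst f g₀ = p ∧ IsPullback j q (pullback.snd f g₀) h := by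
  let j : P ⟶ pullback f g₀ := pullback.lift p (q ≫ h) (by rw [Category.assoc, hg, sq.w])
  refine ⟨j, pullback.lift_fst _ _ _, IsPullback.of_right ?_ (pullback.lift_snd _ _ _) (IsPullback.of_hasPullback f g₀)⟩
  rw [pullback.lift_fst, hg]
  exact sq

theorem isFT_unit (X : Scheme.{u}) : CohB1.IsFT (Coh.structureModule X) := by
  haveI : SheafOfModules.IsFinitePresentation (R := X.ringCatSheaf) (Coh.structureModule X) :=
    DepthLib.isFP_structureModule
  show SheafOfModules.IsFiniteType (R := X.ringCatSheaf) (Coh.structureModule X)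
  infer_instance

end UnibFlatLib
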