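import Groth.Agent.UnibFlatLib.Normal
import Groth.Prelude.Def_CAlg2
import Groth.Agent.GeomIrrLib.Basic

/-! Reduction to a normal base over a unibranch local domain. -/

set_option autoImplicit false
set_option backward.isDefEq.respectTransparency false
set_option backward.isDefEq.respectTransparency.types false
set_option maxHeartbeats 1000000
set_option linter.all false
universe u

open CategoryTheory CategoryTheory.Limits AlgebraicGeometry IsLocalRing

noncomputable section

namespace UnibFlatLib

variable (A : Type u) [CommRing A]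

/-- The map to the normalisation of the reduction. -/
def toNorm : A →+* CAlg2.normRed A :=
  (algebraMap (CAlg2.red A) (CAlg2.normRed A)).comp (Ideal.Quotient.mk (nilradical A))

variable [IsDomain A]

theorem toNorm_injective (h : IsDomain (CAlg2.red A)) : Function.Injective (toNorm A) := by
  refine Function.Injective.comp (g := algebraMap (CAlg2.red A) (CAlg2.normRed A)) ?_ ?_
  · intro a b hab
    exact IsFractionRing.injective (CAlg2.red A) (FractionRing (CAlg2.red A)) (congrArg Subtype.val hab)
  · rw [RingHom.injective_iff_ker_eq_bot, Ideal.mk_ker]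
    exact nilradical_eq_zero A

omit [IsDomain A] in
theorem toNorm_isIntegral : (toNorm A).IsIntegral :=
  RingHom.IsIntegral.trans _ _ (RingHom.IsIntegral.of_finite (RingHom.Finite.of_surjective _ Ideal.Quotient.mk_surjective))
    fun x => Algebra.IsIntegral.isIntegral (R := CAlg2.red A) x

variable [IsLocalRing A] {A' : Type u} [CommRing A'] [IsLocalRing A'] [Algebra A A']

/-- A valuation ring receiving both the normalisation and the extension. -/
theorem exists_valuationRing (hA : CAlg2.IsUnibranch A) [IsLocalHom (algebraMap A A')]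
    (hinj : Function.Injective (algebraMap A A')) :
    haveI := hA.2
    ∃ (V : Type u) (_ : CommRing V) (_ : IsDomain V) (_ : IsLocalRing V) (φ : CAlg2.normRed A →+* V)
      (_ : IsLocalHom φ) (χ : A' →+* V) (_ : IsLocalHom χ),
      Function.Injective φ ∧ φ.comp (toNorm A) = χ.comp (algebraMap A A') := by
  haveI := hA.1
  haveI := hA.2
  let S : Submonoid A' := (nonZeroDivisors A).map (algebraMap A A')
  obtain ⟨P, hP, -, hdisj⟩ := Ideal.exists_le_prime_disjoint (I := (⊥ : Ideal A')) S (by
    rw [Set.disjoint_left]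
    rintro _ h ⟨a, ha, rfl⟩
    exact nonZeroDivisors.ne_zero ha (hinj ((Ideal.mem_bot.1 h).trans (map_zero _).symm)))
  haveI := hP
  let K' := FractionRing (A' ⧸ P)
  let f' : A' →+* K' := (algebraMap (A' ⧸ P) K').comp (Ideal.Quotient.mk P)
  have hf' : Function.Injective (f'.comp (algebraMap A A')) := by
    rw [injective_iff_map_eq_zero]
    intro a ha
    by_contra h0
    have h1 : algebraMap A A' a ∈ P := Ideal.Quotient.eq_zero_iff_mem.1
      (IsFractionRing.injective (A' ⧸ P) K' (ha.trans (map_zero _).symm))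
    exact Set.disjoint_left.1 hdisj h1 ⟨a, mem_nonZeroDivisors_of_ne_zero h0, rfl⟩
  obtain ⟨V, hV, hloc⟩ := IsLocalRing.exists_factor_valuationRing f'
  let χ : A' →+* V := f'.codRestrict V.toSubring hV
  haveI : IsLocalHom χ := hloc
  let η : CAlg2.red A →+* V := Ideal.Quotient.lift (nilradical A) (χ.comp (algebraMap A A'))
    (fun a ha => by rw [nilradical_eq_zero A] at ha; rw [Ideal.mem_bot.1 ha, map_zero])
  letI : Algebra (CAlg2.red A) V := η.toAlgebra
  have hη : Function.Injective η := by
    intro a b hab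
    obtain ⟨a, rfl⟩ := Ideal.Quotient.mk_surjective a
    obtain ⟨b, rfl⟩ := Ideal.Quotient.mk_surjective b
    exact congrArg _ (hf' (congrArg Subtype.val hab))
  obtain ⟨φ, hφ, hφc⟩ := exists_closureHom (A := V) (A₀ := CAlg2.red A) (F := FractionRing (CAlg2.red A)) (K := K')
    hη
  have hcomm : φ.comp (toNorm A) = χ.comp (algebraMap A A') := by
    rw [toNorm, ← RingHom.comp_assoc, hφc]
    exact Ideal.Quotient.lift_comp_mk _ _ _
  haveI : IsLocalHom φ := by
    refine ((IsLocalRing.local_hom_TFAE φ).out 4 0).1 (IsLocalRing.eq_maximalIdeal ?_)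
    letI := (toNorm A).toAlgebra
    haveI : Algebra.IsIntegral A (CAlg2.normRed A) := ⟨toNorm_isIntegral A⟩
    refine Ideal.isMaximal_of_isIntegral_of_isMaximal_comap (R := A) _ ?_
    haveI : IsLocalHom (χ.comp (algebraMap A A')) := RingHom.isLocalHom_comp _ _
    have h04 : (maximalIdeal V).comap (χ.comp (algebraMap A A')) = maximalIdeal A :=
      ((IsLocalRing.local_hom_TFAE (χ.comp (algebraMap A A'))).out 0 4).1 ‹_›
    rw [Ideal.comap_comap, show algebraMap A (CAlg2.normRed A) = toNorm A from rfl, hcomm, h04]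
    exact maximalIdeal.isMaximal A
  exact ⟨V, inferInstance, inferInstance, inferInstance, φ, inferInstance, χ, inferInstance, hφ, hcomm⟩

omit [IsDomain A] in
/-- Points over the closed point lie over the closed point of the normalisation. -/
theorem snd_eq_closedPoint [IsLocalRing (CAlg2.normRed A)] {X : Scheme.{u}} (f : X ⟶ Spec (CommRingCat.of A))
    (x₁ : ↥(pullback f (Spec.map (CommRingCat.ofHom (toNorm A)))))
    (hx : f (pullback.fst f _ x₁) = closedPoint A) :
    pullback.snd f (Spec.map (CommRingCat.ofHom (toNorm A))) x₁ = closedPoint (CAlg2.normRed A) := by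
  letI := (toNorm A).toAlgebra
  haveI : Algebra.IsIntegral A (CAlg2.normRed A) := ⟨toNorm_isIntegral A⟩
  rw [← Scheme.Hom.comp_apply, pullback.condition, Scheme.Hom.comp_apply] at hx
  apply PrimeSpectrum.ext
  refine IsLocalRing.eq_maximalIdeal (Ideal.isMaximal_of_isIntegral_of_isMaximal_comap (R := A) _ ?_)
  rw [show algebraMap A (CAlg2.normRed A) = toNorm A from rfl]
  have h := congrArg (fun t : Spec (CommRingCat.of A) => t.asIdeal) hx
  convert maximalIdeal.isMaximal A
  exact h

theorem exists_flat_over (hA : CAlg2.IsUnibranch A) [IsLocalHom (algebraMap A A')]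
    (hinj : Function.Injective (algebraMap A A')) {X : Scheme.{u}} (f : X ⟶ Spec (CommRingCat.of A))
    [LocallyOfFinitePresentation f] :
    haveI := hA.2
    ∃ (P : Scheme.{u}) (p₁ : P ⟶ pullback f (Spec.map (CommRingCat.ofHom (toNorm A))))
      (p' : P ⟶ pullback f (Spec.map (CommRingCat.ofHom (algebraMap A A')))),
      p₁ ≫ pullback.fst f _ = p' ≫ pullback.fst f _ ∧
      (∀ x₁, pullback.snd f (Spec.map (CommRingCat.ofHom (toNorm A))) x₁ = closedPoint (CAlg2.normRed A) →
        ∃ z, p₁ z = x₁ ∧
          pullback.snd f (Spec.map (CommRingCat.ofHom (algebraMap A A'))) (p' z) = closedPoint A' ∧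
          (FlatAt (pullback.snd f (Spec.map (CommRingCat.ofHom (algebraMap A A')))) (p' z) →
            FlatAt (pullback.snd f (Spec.map (CommRingCat.ofHom (toNorm A)))) x₁)) ∧
      (∀ x', pullback.snd f (Spec.map (CommRingCat.ofHom (algebraMap A A'))) x' = closedPoint A' →
        FlatAt (pullback.snd f (Spec.map (CommRingCat.ofHom (algebraMap A A')))) x' →
        ∃ z, p' z = x' ∧
          pullback.snd f (Spec.map (CommRingCat.ofHom (toNorm A))) (p₁ z) = closedPoint (CAlg2.normRed A) ∧
          FlatAt (pullback.snd f (Spec.map (CommRingCat.ofHom (toNorm A)))) (p₁ z)) := by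
  haveI := hA.1
  haveI := hA.2
  haveI : IsIntegrallyClosed (CAlg2.normRed A) :=
    integralClosure.isIntegrallyClosedOfFiniteExtension (FractionRing (CAlg2.red A))
  obtain ⟨V, _, _, _, φ, _, χ, _, hφ, hcomm⟩ := exists_valuationRing A hA hinj
  let gN := Spec.map (CommRingCat.ofHom (toNorm A))
  let gA := Spec.map (CommRingCat.ofHom (algebraMap A A'))
  let gφ := Spec.map (CommRingCat.ofHom φ)
  let gχ := Spec.map (CommRingCat.ofHom χ)
  let f₁ := pullback.snd f gN
  haveI : LocallyOfFinitePresentation f₁ := MorphismProperty.pullback_snd _ _ ‹_›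
  have sq₁ := IsPullback.of_hasPullback f₁ gφ
  have heq : gχ ≫ gA = gφ ≫ gN := by
    rw [← Spec.map_comp, ← Spec.map_comp, ← CommRingCat.ofHom_comp, ← CommRingCat.ofHom_comp, hcomm]
  obtain ⟨p', hp', sq'⟩ := sq_factor (sq₁.paste_horiz (IsPullback.of_hasPullback f gN)) gχ heq
  refine ⟨_, pullback.fst f₁ gφ, p', hp'.symm, fun x₁ hx₁ => ?_, fun x' hx' hfl => ?_⟩
  · obtain ⟨z, hz1, hz2⟩ := exists_pt sq₁ x₁ (closedPoint V) (hx₁.trans (closedPt_of_local φ).symm)
    refine ⟨z, hz1, ?_, fun h => hz1 ▸ flatAt_normal φ hφ f₁ sq₁ z hz2 (flatAt_bc sq' z h)⟩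
    rw [← Scheme.Hom.comp_apply, sq'.w, Scheme.Hom.comp_apply, hz2, closedPt_of_local]
  · obtain ⟨z, hz1, hz2⟩ := exists_pt sq' x' (closedPoint V) (hx'.trans (closedPt_of_local χ).symm)
    refine ⟨z, hz1, ?_, flatAt_normal φ hφ f₁ sq₁ z hz2 (flatAt_bc sq' z (hz1.symm ▸ hfl))⟩
    rw [← Scheme.Hom.comp_apply, pullback.condition, Scheme.Hom.comp_apply, hz2, closedPt_of_local]

/-- A single point over the closed point when the residue extension is purely inseparable. -/
theorem eq_of_purelyInseparable (hA : CAlg2.IsGeomUnibranch A) {X : Scheme.{u}} (f : X ⟶ Spec (CommRingCat.of A))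
    (x₁ x₂ : ↥(pullback f (Spec.map (CommRingCat.ofHom (toNorm A)))))
    (h₁ : haveI := hA.1.2; pullback.snd f (Spec.map (CommRingCat.ofHom (toNorm A))) x₁ = closedPoint (CAlg2.normRed A))
    (h₂ : haveI := hA.1.2; pullback.snd f (Spec.map (CommRingCat.ofHom (toNorm A))) x₂ = closedPoint (CAlg2.normRed A))
    (h : pullback.fst f (Spec.map (CommRingCat.ofHom (toNorm A))) x₁ =
      pullback.fst f (Spec.map (CommRingCat.ofHom (toNorm A))) x₂) : x₁ = x₂ := by
  haveI := hA.1.1
  haveI := hA.1.2
  letI := (toNorm A).toAlgebra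
  haveI : Algebra.IsIntegral A (CAlg2.normRed A) := ⟨toNorm_isIntegral A⟩
  haveI : IsLocalHom (toNorm A) := RingHom.IsIntegral.isLocalHom (toNorm_isIntegral A) (toNorm_injective A hA.1.1)
  let k := ResidueField A
  let k₁ := ResidueField (CAlg2.normRed A)
  letI : Algebra k k₁ := (ResidueField.map (toNorm A)).toAlgebra
  haveI : ExpChar k (ringExpChar k) := inferInstance
  have hchar : ringExpChar k₁ = ringExpChar k := by
    haveI : ExpChar k₁ (ringExpChar k) := expChar_of_injective_algebraMap (RingHom.injective (algebraMap k k₁)) _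
    exact ringExpChar.eq k₁ (ringExpChar k)
  haveI : IsPurelyInseparable k k₁ := by
    rw [isPurelyInseparable_iff_pow_mem k (ringExpChar k)]
    intro w
    obtain ⟨n, a, ha⟩ := hA.2 (maximalIdeal (CAlg2.normRed A)) w
    refine ⟨n, residue A a, ?_⟩
    rw [← hchar]
    exact ha
  haveI : UniversallyInjective (Spec.map (CommRingCat.ofHom (algebraMap k k₁))) :=
    GeomIrrLib.universallyInjective_specMap k k₁
  let res₁ := Spec.map (CommRingCat.ofHom (residue (CAlg2.normRed A)))
  let c := res₁ ≫ Spec.map (CommRingCat.ofHom (toNorm A))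
  haveI : UniversallyInjective c := by
    haveI : IsClosedImmersion (Spec.map (CommRingCat.ofHom (residue A))) :=
      IsClosedImmersion.spec_of_surjective _ residue_surjective
    have hc : c = Spec.map (CommRingCat.ofHom (algebraMap k k₁)) ≫ Spec.map (CommRingCat.ofHom (residue A)) := by
      show res₁ ≫ Spec.map (CommRingCat.ofHom (toNorm A)) = _
      rw [← Spec.map_comp, ← Spec.map_comp]
      rfl
    rw [hc]
    exact MorphismProperty.comp_mem _ _ _ ‹_› inferInstance
  haveI : IsClosedImmersion res₁ := IsClosedImmersion.spec_of_surjective _ residue_surjective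
  have sq := (IsPullback.of_hasPullback (pullback.snd f (Spec.map (CommRingCat.ofHom (toNorm A)))) res₁).paste_horiz
    (IsPullback.of_hasPullback f (Spec.map (CommRingCat.ofHom (toNorm A))))
  haveI : UniversallyInjective (pullback.fst (pullback.snd f (Spec.map (CommRingCat.ofHom (toNorm A)))) res₁ ≫
      pullback.fst f (Spec.map (CommRingCat.ofHom (toNorm A)))) :=
    MorphismProperty.of_isPullback sq.flip ‹UniversallyInjective c›
  obtain ⟨w₁, hw₁, -⟩ := exists_pt (IsPullback.of_hasPullback (pullback.snd f _) res₁) x₁ (closedPoint k₁)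
    (h₁.trans (closedPt_of_local _).symm)
  obtain ⟨w₂, hw₂, -⟩ := exists_pt (IsPullback.of_hasPullback (pullback.snd f _) res₁) x₂ (closedPoint k₁)
    (h₂.trans (closedPt_of_local _).symm)
  rw [← hw₁, ← hw₂] at h
  rw [← hw₁, ← hw₂]
  refine congrArg _ ((pullback.fst (pullback.snd f (Spec.map (CommRingCat.ofHom (toNorm A)))) res₁ ≫
      pullback.fst f (Spec.map (CommRingCat.ofHom (toNorm A)))).injective ?_)
  exact h

end UnibFlatLib
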