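import Groth.Agent.UnibFlatLib.Basic
import Groth.Agent.FlatLib.PrimaryScheme
import Groth.Agent.S9032
import Groth.Agent.S0537
import Groth.Agent.S0539
import Groth.Agent.S0540
import Groth.Agent.S2748
import Groth.Agent.S2817

/-! Descent of flatness along an injective local homomorphism out of a normal Noetherian local ring. -/

set_option autoImplicit false
set_option backward.isDefEq.respectTransparency false
set_option backward.isDefEq.respectTransparency.types false
set_option maxHeartbeats 1000000
set_option linter.all false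
universe u

open CategoryTheory CategoryTheory.Limits AlgebraicGeometry IsLocalRing TensorProduct

noncomputable section

namespace UnibFlatLib

theorem mem_range_of_isSeparable {K L : Type*} [Field K] [IsSepClosed K] [Field L] [Algebra K L] (a : L)
    (ha : IsSeparable K a) : a ∈ (algebraMap K L).range := by
  have hirr := minpoly.irreducible ha.isIntegral
  exact minpoly.mem_range_of_degree_eq_one K a (IsSepClosed.degree_eq_one_of_irreducible K hirr ha)

theorem isSepClosed_of_equiv {K L : Type u} [Field K] [Field L] (e : K ≃+* L) [IsSepClosed K] : IsSepClosed L := by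
  refine IsSepClosed.of_exists_root _ fun p hm hi hs => ?_
  have hp : (p.map e.symm.toRingHom).Separable := hs.map
  obtain ⟨x, hx⟩ := IsSepClosed.exists_root (p.map e.symm.toRingHom)
    (by rw [Polynomial.degree_map]; exact hi.degree_pos.ne') hp
  refine ⟨e x, ?_⟩
  have h := congrArg e.toRingHom hx
  rw [map_zero, ← Polynomial.eval_map_apply, Polynomial.map_map] at h
  simpa using h

theorem closedPt_of_local {R T : Type u} [CommRing R] [IsLocalRing R] [CommRing T] [IsLocalRing T] (g : R →+* T)
    [IsLocalHom g] : (Spec.map (CommRingCat.ofHom g)) (closedPoint T) = closedPoint R :=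
  PrimeSpectrum.ext (Ideal.ext fun a => by
    show g a ∈ maximalIdeal T ↔ a ∈ maximalIdeal R
    simp [IsLocalRing.mem_maximalIdeal])

/-- The henselian case: a flattening ideal inside the kernel. -/
theorem flatAt_henselian {S T : Type u} [CommRing S] [HenselianLocalRing S] [IsNoetherianRing S]
    [IsSepClosed (ResidueField S)] [CommRing T] [IsLocalRing T] [IsNoetherianRing T] (g : S →+* T) [IsLocalHom g]
    (hg : Function.Injective g) {X P : Scheme.{u}} (f : X ⟶ Spec (CommRingCat.of S)) [LocallyOfFiniteType f]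
    {p : P ⟶ X} {q : P ⟶ Spec (CommRingCat.of T)} (sq : IsPullback p q f (Spec.map (CommRingCat.ofHom g)))
    (z : P) (hz : q z = closedPoint T) (hflat : FlatAt q z) : FlatAt f (p z) := by
  let y := p z
  have hy : f y = closedPoint S := by
    show f (p z) = _
    rw [← Scheme.Hom.comp_apply, sq.w, Scheme.Hom.comp_apply, hz, closedPt_of_local]
  haveI : Coh.IsQCoh (Coh.structureModule X) := QCohLib.isQCoh_unit
  obtain ⟨I, hI, -⟩ := Groth.Agent.S9032.result f (Coh.structureModule X) (isFT_unit X) {y}
    (by rintro _ rfl; exact hy)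
  have key : ∀ n : ℕ, I.map g ≤ maximalIdeal T ^ (n + 1) := by
    intro n
    let mT := Ideal.Quotient.mk (maximalIdeal T ^ (n + 1))
    let J : Ideal S := RingHom.ker (mT.comp g)
    haveI : Nontrivial (T ⧸ maximalIdeal T ^ (n + 1)) := Ideal.Quotient.nontrivial_iff.2 fun h =>
      (maximalIdeal.isMaximal T).ne_top (top_le_iff.1 (h ▸ Ideal.pow_le_self (Nat.succ_ne_zero n)))
    haveI : IsLocalRing (T ⧸ maximalIdeal T ^ (n + 1)) := .of_surjective' mT Ideal.Quotient.mk_surjective
    haveI : IsLocalHom mT := .of_surjective _ Ideal.Quotient.mk_surjective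
    have hJ : J ≠ ⊤ := RingHom.ker_ne_top _
    haveI : Nontrivial (S ⧸ J) := Ideal.Quotient.nontrivial_iff.2 hJ
    haveI : IsLocalRing (S ⧸ J) := .of_surjective' _ Ideal.Quotient.mk_surjective
    haveI hmkloc : IsLocalHom (Ideal.Quotient.mk J) := .of_surjective _ Ideal.Quotient.mk_surjective
    have hpow : maximalIdeal S ^ (n + 1) ≤ J := by
      have hle : (maximalIdeal S).map g ≤ maximalIdeal T := ((IsLocalRing.local_hom_TFAE g).out 0 2).1 ‹_›
      intro a ha
      show mT (g a) = 0
      rw [Ideal.Quotient.eq_zero_iff_mem]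
      exact Ideal.pow_right_mono hle _ (Ideal.map_pow (I := maximalIdeal S) g (n + 1) ▸ Ideal.mem_map_of_mem g ha)
    haveI : IsArtinianRing (S ⧸ J) := by
      refine isArtinianRing_iff_isNilpotent_maximalIdeal _ |>.2 ⟨n + 1, ?_⟩
      rw [← IsLocalRing.map_maximalIdeal_of_surjective _ Ideal.Quotient.mk_surjective, ← Ideal.map_pow,
        Ideal.zero_eq_bot, Ideal.map_eq_bot_iff_le_ker, Ideal.mk_ker]
      exact hpow
    let φ : S ⧸ J →+* T ⧸ maximalIdeal T ^ (n + 1) := RingHom.kerLift (mT.comp g)
    have hφc : φ.comp (Ideal.Quotient.mk J) = mT.comp g := RingHom.ext fun _ => rfl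
    haveI : IsLocalHom (φ.comp (Ideal.Quotient.mk J)) := by rw [hφc]; infer_instance
    haveI : IsLocalHom φ := ⟨fun b hb => by
      obtain ⟨b, rfl⟩ := Ideal.Quotient.mk_surjective b
      exact ((isUnit_map_iff (φ.comp (Ideal.Quotient.mk J)) b).1 hb).map _⟩
    let gn := Spec.map (CommRingCat.ofHom (Ideal.Quotient.mk J))
    let gφ := Spec.map (CommRingCat.ofHom φ)
    let gm := Spec.map (CommRingCat.ofHom mT)
    let Tn := Spec (CommRingCat.of (S ⧸ J))
    have hgn : gn (closedPoint (S ⧸ J)) = closedPoint S := closedPt_of_local _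
    have hgφ : gφ ≫ gn = gm ≫ Spec.map (CommRingCat.ofHom g) := by
      rw [← Spec.map_comp, ← Spec.map_comp, ← CommRingCat.ofHom_comp, ← CommRingCat.ofHom_comp, hφc]
    have hflatn : ∀ x' : ↥(pullback f gn), pullback.snd f gn x' = closedPoint (S ⧸ J) →
        pullback.fst f gn x' = y → FlatAt (pullback.snd f gn) x' := by
      intro x' hx's hx'f
      let fn := pullback.snd f gn
      haveI : LocallyOfFiniteType fn := MorphismProperty.pullback_snd _ _ ‹_›
      haveI : IsLocalRing Γ(Tn, ⊤) := (Scheme.ΓSpecIso (CommRingCat.of (S ⧸ J))).commRingCatIsoToRingEquiv.symm.isLocalRing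
      haveI : IsArtinianRing Γ(Tn, ⊤) :=
        (Scheme.ΓSpecIso (CommRingCat.of (S ⧸ J))).commRingCatIsoToRingEquiv.symm.surjective.isArtinianRing
      haveI : IsLocalRing Γ(Spec (CommRingCat.of (T ⧸ maximalIdeal T ^ (n + 1))), ⊤) :=
        (Scheme.ΓSpecIso (CommRingCat.of _)).commRingCatIsoToRingEquiv.symm.isLocalRing
      haveI : Coh.IsQCoh (Coh.structureModule (pullback f gn)) := QCohLib.isQCoh_unit
      refine FlatLib.isFlatOverAt_of_primary_family fn _ (isFT_unit _) x' ?_
        (ι := PUnit.{u + 1}) (fun _ => Spec (CommRingCat.of (T ⧸ maximalIdeal T ^ (n + 1)))) (fun _ => gφ) ?_ ?_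
      · letI := (fn.residueFieldMap x').hom.toAlgebra
        have hsurj : Function.Surjective (fun a : S => (Tn.residue (fn x')).hom
            ((Tn.presheaf.germ ⊤ (fn x') trivial).hom ((Scheme.ΓSpecIso (CommRingCat.of (S ⧸ J))).inv.hom
              (Ideal.Quotient.mk J a)))) := by
          intro w
          obtain ⟨w, rfl⟩ := IsLocalRing.residue_surjective w
          let e := (isAffineOpen_top Tn).primeIdealOf ⟨fn x', trivial⟩
          letI : Algebra Γ(Tn, ⊤) (Tn.presheaf.stalk (fn x')) :=
            (Tn.presheaf.germ ⊤ (fn x') trivial).hom.toAlgebra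
          haveI : IsLocalization.AtPrime (Tn.presheaf.stalk (fn x')) e.asIdeal :=
            (isAffineOpen_top Tn).isLocalization_stalk ⟨fn x', trivial⟩
          obtain ⟨a, s, rfl⟩ := IsLocalization.exists_mk'_eq e.asIdeal.primeCompl w
          have hs : IsUnit (s : Γ(Tn, ⊤)) := by
            by_contra hs
            exact s.2 ((IsLocalRing.eq_maximalIdeal (inferInstance : e.asIdeal.IsMaximal)).ge hs)
          obtain ⟨v, hv⟩ := hs
          obtain ⟨b, hb⟩ : ∃ b, (Scheme.ΓSpecIso (CommRingCat.of (S ⧸ J))).inv.hom b = a * ↑v⁻¹ :=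
            ⟨_, Iso.hom_inv_id_apply (Scheme.ΓSpecIso (CommRingCat.of (S ⧸ J))) _⟩
          obtain ⟨b, rfl⟩ := Ideal.Quotient.mk_surjective b
          refine ⟨b, ?_⟩
          show (Tn.residue (fn x')).hom ((Tn.presheaf.germ ⊤ (fn x') trivial).hom _) = _
          rw [hb]
          refine congrArg (Tn.residue (fn x')).hom ?_
          show algebraMap Γ(Tn, ⊤) (Tn.presheaf.stalk (fn x')) (a * ↑v⁻¹) = _
          rw [IsLocalization.eq_mk'_iff_mul_eq, ← map_mul, mul_assoc, ← hv, Units.inv_mul, mul_one]
        let ρ : S →+* Tn.residueField (fn x') := (Tn.residue (fn x')).hom.comp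
          ((Tn.presheaf.germ ⊤ (fn x') trivial).hom.comp
            ((Scheme.ΓSpecIso (CommRingCat.of (S ⧸ J))).inv.hom.comp (Ideal.Quotient.mk J)))
        have hker : RingHom.ker ρ = maximalIdeal S :=
          IsLocalRing.eq_maximalIdeal (RingHom.ker_isMaximal_of_surjective ρ hsurj)
        haveI : IsSepClosed (Tn.residueField (fn x')) :=
          isSepClosed_of_equiv (K := ResidueField S)
            ((Ideal.quotEquivOfEq hker.symm).trans (RingHom.quotientKerEquivOfSurjective (f := ρ) hsurj))
        exact fun a ha => mem_range_of_isSeparable a ha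
      · intro a ha
        have h := ha PUnit.unit
        rw [Scheme.Hom.appLE, Subsingleton.elim (homOfLE _) (𝟙 _)] at h
        simp only [op_id, CategoryTheory.Functor.map_id, Category.comp_id] at h
        have h2 : (Scheme.ΓSpecIso (CommRingCat.of (T ⧸ maximalIdeal T ^ (n + 1)))).hom.hom (gφ.appTop.hom a) =
            φ ((Scheme.ΓSpecIso (CommRingCat.of (S ⧸ J))).hom.hom a) :=
          congr($(Scheme.ΓSpecIso_naturality (CommRingCat.ofHom φ)) a)
        rw [show gφ.appTop.hom a = 0 from h, map_zero] at h2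
        have h3 : (Scheme.ΓSpecIso (CommRingCat.of (S ⧸ J))).hom.hom a = 0 :=
          RingHom.kerLift_injective (mT.comp g) (h2.symm.trans (map_zero φ).symm)
        exact (Scheme.ΓSpecIso (CommRingCat.of (S ⧸ J))).commRingCatIsoToRingEquiv.injective
          (h3.trans (map_zero _).symm)
      · intro _
        let B := pullback fn gφ
        have sq1 : IsPullback (pullback.fst fn gφ ≫ pullback.fst f gn) (pullback.snd fn gφ) f (gφ ≫ gn) :=
          (IsPullback.of_hasPullback fn gφ).paste_horiz (IsPullback.of_hasPullback f gn)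
        obtain ⟨w₀, hw1, hw2⟩ := exists_pt (IsPullback.of_hasPullback q gm) z (closedPoint _)
          (hz.trans (closedPt_of_local mT).symm)
        have sq2 : IsPullback (pullback.fst q gm ≫ p) (pullback.snd q gm) f (gφ ≫ gn) :=
          hgφ ▸ (IsPullback.of_hasPullback q gm).paste_horiz sq
        let e := sq2.isoIsPullback _ _ sq1
        have he1 : e.hom ≫ pullback.fst fn gφ ≫ pullback.fst f gn = pullback.fst q gm ≫ p :=
          sq2.isoIsPullback_hom_fst _ _ sq1
        have he2 : e.hom ≫ pullback.snd fn gφ = pullback.snd q gm := sq2.isoIsPullback_hom_snd _ _ sq1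
        have hq1 : pullback.fst fn gφ (e.hom w₀) = x' := by
          haveI : IsClosedImmersion gn := IsClosedImmersion.spec_of_surjective _ Ideal.Quotient.mk_surjective
          refine (pullback.fst f gn).isClosedEmbedding.injective ?_
          rw [hx'f]
          calc pullback.fst f gn (pullback.fst fn gφ (e.hom w₀))
              = (e.hom ≫ pullback.fst fn gφ ≫ pullback.fst f gn) w₀ := rfl
            _ = y := by rw [he1, Scheme.Hom.comp_apply, hw1]
        have hq2 : pullback.snd fn gφ (e.hom w₀) = closedPoint _ := by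
          rw [← Scheme.Hom.comp_apply, he2, hw2]
        refine ⟨e.hom w₀, hq1, ?_, ?_⟩
        · rw [hq2]; exact IsLocalRing.isClosed_singleton_closedPoint _
        · have h1 : FlatAt (pullback.snd q gm) w₀ :=
            flatAt_bc (IsPullback.of_hasPullback q gm) w₀ (by rw [hw1]; exact hflat)
          exact (flatAt_pullback_iff _ _ _).2 ((flatAt_openImmersion e.hom _ w₀).1 (he2.symm ▸ h1))
    have hmem := (hI Tn gn (closedPoint (S ⧸ J)) hgn).1 fun x' h1 h2 =>
      (flatAt_pullback_iff _ _ _).2 (hflatn x' h1 h2)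
    rw [Ideal.map_le_iff_le_comap]
    intro a ha
    have haJ : a ∈ J := Groth.Agent.S9032.mem_of_germ_eq_zero J a (hmem a ha)
    exact Ideal.mem_comap.2 ((Ideal.Quotient.eq_zero_iff_mem (I := maximalIdeal T ^ (n + 1))).1 (RingHom.mem_ker.1 haJ))
  have hI0 : ∀ a ∈ I, a = 0 := fun a ha => hg <| by
    rw [map_zero]
    have h : g a ∈ (⨅ n : ℕ, maximalIdeal T ^ n : Ideal T) := Ideal.mem_iInf.2 fun n =>
      Ideal.pow_le_pow_right n.le_succ (key n (Ideal.mem_map_of_mem g ha))
    rw [Ideal.iInf_pow_eq_bot_of_isLocalRing _ (maximalIdeal.isMaximal T).ne_top] at h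
    exact h
  let i := 𝟙 (Spec (CommRingCat.of S))
  have sqid : IsPullback (inv (pullback.fst f i)) f (pullback.snd f i) i :=
    IsPullback.of_horiz_isIso ⟨by rw [IsIso.inv_comp_eq, ← Category.assoc, pullback.condition]; simp [i]⟩
  have hpt : (pullback.fst f i) ((inv (pullback.fst f i)) y) = y := by
    rw [← Scheme.Hom.comp_apply, IsIso.inv_hom_id]; rfl
  have hw := (hI (Spec (CommRingCat.of S)) i (closedPoint S) rfl).2 (fun a ha => by rw [hI0 a ha]; simp)
    ((inv (pullback.fst f i)) y) (by
      rw [← Scheme.Hom.comp_apply]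
      exact (congr($(sqid.w) y)).trans (by rw [Scheme.Hom.comp_apply]; exact hy)) hpt
  exact flatAt_bc sqid y ((flatAt_pullback_iff _ _ _).1 hw)

/-- The generic fibre of a strict henselization of a normal domain meets every nonzero ideal. -/
theorem exists_mul_eq_algebraMap (R S : Type u) [CommRing R] [IsLocalRing R] [IsNoetherianRing R] [IsDomain R]
    [CommRing S] [IsLocalRing S] [IsDomain S] [Algebra R S] [IsLocalHom (algebraMap R S)]
    [Hensel.IsStrictHenselization R S] (s : S) (hs : s ≠ 0) :
    ∃ (t : S) (r : R), r ≠ 0 ∧ s * t = algebraMap R S r := by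
  let K := (⊥ : Ideal R).ResidueField
  obtain ⟨n, F, _, _, -, ⟨e⟩⟩ := Groth.Agent.S2817.result R S (⊥ : Ideal R)
  haveI := Groth.Agent.S0539.result R S
  have hinj : Function.Injective (fun x : S => (1 : K) ⊗ₜ[R] x) := by
    have hK : Function.Injective (Algebra.linearMap R K) := fun a b h => by
      rw [← sub_eq_zero, ← Ideal.mem_bot]
      exact Ideal.algebraMap_residueField_eq_zero.1 (by rw [map_sub, sub_eq_zero]; exact h)
    have h := Module.Flat.rTensor_preserves_injective_linearMap (M := S) (Algebra.linearMap R K) hK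
    intro a b hab
    apply (TensorProduct.lid R S).symm.injective
    exact h (by simpa using hab)
  have hclear : ∀ x : K ⊗[R] S, ∃ (r : R) (t : S), r ≠ 0 ∧ r • x = 1 ⊗ₜ t := by
    intro x
    obtain ⟨r, hr, t, ht⟩ := Ideal.Fiber.exists_smul_eq_one_tmul (⊥ : Ideal R) x
    exact ⟨r, t, fun h => hr (h ▸ Ideal.zero_mem _), ht⟩
  let a : K ⊗[R] S := 1 ⊗ₜ s
  obtain ⟨r, t, hr, ht⟩ := hclear (e.symm fun i => (e a i)⁻¹)
  have hvn : a * a * (e.symm fun i => (e a i)⁻¹) = a := by
    apply e.injective
    funext i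
    rw [map_mul, map_mul, AlgEquiv.apply_symm_apply]
    show e a i * e a i * (e a i)⁻¹ = e a i
    by_cases h : e a i = 0
    · simp [h]
    · rw [mul_assoc, mul_inv_cancel₀ h, mul_one]
  refine ⟨t, r, hr, ?_⟩
  have h : s * s * t = r • s := hinj (by
    show (1 : K) ⊗ₜ[R] (s * s * t) = 1 ⊗ₜ (r • s)
    rw [TensorProduct.tmul_smul, show (1 : K) ⊗ₜ[R] s = a from rfl]
    conv_rhs => rw [← hvn, ← mul_smul_comm, ht]
    simp [a, Algebra.TensorProduct.tmul_mul_tmul])
  rw [Algebra.smul_def, mul_comm (algebraMap R S r), mul_assoc] at h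
  exact mul_left_cancel₀ hs h

/-- Descent of flatness from a point over a dominating Noetherian local ring. -/
theorem flatAt_noetherian {R R' : Type u} [CommRing R] [IsDomain R] [IsIntegrallyClosed R] [IsLocalRing R]
    [IsNoetherianRing R] [CommRing R'] [IsLocalRing R'] [IsNoetherianRing R'] (ψ : R →+* R') [IsLocalHom ψ]
    (hψ : Function.Injective ψ) {X P : Scheme.{u}} (f : X ⟶ Spec (CommRingCat.of R)) [LocallyOfFiniteType f]
    {p : P ⟶ X} {q : P ⟶ Spec (CommRingCat.of R')} (sq : IsPullback p q f (Spec.map (CommRingCat.ofHom ψ)))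
    (z : P) (hz : q z = closedPoint R') (hflat : FlatAt q z) : FlatAt f (p z) := by
  obtain ⟨T, _, _, _, _, hT⟩ := Groth.Agent.S0537.result R'
  obtain ⟨S, _, _, _, _, hS⟩ := Groth.Agent.S0537.result R
  haveI := hT.henselian
  haveI := hS.henselian
  haveI := (Groth.Agent.S0540.result R' T).1 ‹_›
  haveI := (Groth.Agent.S0540.result R S).1 ‹_›
  haveI : IsSepClosed (ResidueField S) := hS.isSepClosure.sep_closed
  haveI : IsSepClosed (ResidueField T) := hT.isSepClosure.sep_closed
  let ι := algebraMap R' T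
  let a := algebraMap R S
  let χ : R →+* T := ι.comp ψ
  letI : Algebra (ResidueField R) (ResidueField T) := (ResidueField.map χ).toAlgebra
  haveI : Algebra.IsSeparable (ResidueField R) (ResidueField S) := hS.isSepClosure.separable
  let τ : ResidueField S →ₐ[ResidueField R] ResidueField T := IsSepClosed.lift
  obtain ⟨g, ⟨hgc, hgres⟩, -⟩ := hS.universal T χ τ.toRingHom (RingHom.ext fun w => τ.commutes w)
  haveI : IsLocalHom g := by
    refine ((IsLocalRing.local_hom_TFAE g).out 2 0).1 (Ideal.map_le_iff_le_comap.2 fun w hw => ?_)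
    show g w ∈ maximalIdeal T
    rw [← IsLocalRing.residue_eq_zero_iff, hgres, (IsLocalRing.residue_eq_zero_iff w).2 hw, map_zero]
  obtain ⟨hSdom, -⟩ := (Groth.Agent.S2748.result R S).2 ⟨‹_›, ‹_›⟩
  haveI := Groth.Agent.S0539.result R' T
  have hχ : Function.Injective χ :=
    (FaithfulSMul.algebraMap_injective R' T).comp hψ
  have hginj : Function.Injective g := by
    rw [RingHom.injective_iff_ker_eq_bot, eq_bot_iff]
    intro s hs
    by_contra h0
    obtain ⟨t, r, hr, hst⟩ := exists_mul_eq_algebraMap R S s h0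
    have h : χ r = 0 := by
      rw [← hgc, RingHom.comp_apply, ← hst, map_mul, RingHom.mem_ker.1 hs, zero_mul]
    exact hr (hχ (h.trans (map_zero χ).symm))
  let gι := Spec.map (CommRingCat.ofHom ι)
  let ga := Spec.map (CommRingCat.ofHom a)
  haveI := Groth.Agent.S0539.result R S
  haveI : Flat ga := (HasRingHomProperty.Spec_iff (P := @Flat)).2 (RingHom.flat_algebraMap_iff.2 inferInstance)
  obtain ⟨w, hw1, hw2⟩ := exists_pt (IsPullback.of_hasPullback q gι) z (closedPoint T)
    (hz.trans (closedPt_of_local ι).symm)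
  have hgw : Spec.map (CommRingCat.ofHom g) ≫ ga = gι ≫ Spec.map (CommRingCat.ofHom ψ) := by
    rw [← Spec.map_comp, ← Spec.map_comp, ← CommRingCat.ofHom_comp, ← CommRingCat.ofHom_comp, hgc]
  obtain ⟨j, hj1, hj2⟩ := sq_factor ((IsPullback.of_hasPullback q gι).paste_horiz sq) _ hgw
  haveI : LocallyOfFiniteType (pullback.snd f ga) := MorphismProperty.pullback_snd _ _ ‹_›
  have h1 := flatAt_henselian g hginj (pullback.snd f ga) hj2 w hw2
    (flatAt_bc (IsPullback.of_hasPullback q gι) w (by rw [hw1]; exact hflat))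
  have h2 := flatAt_descend (IsPullback.of_hasPullback f ga) (j w) h1
  rw [← Scheme.Hom.comp_apply, hj1, Scheme.Hom.comp_apply, hw1] at h2
  exact h2

end UnibFlatLib
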