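import Groth.Agent.UnibFlatLib.Hens
import Groth.Agent.ConsLib.FGSystem
import Groth.Agent.S2656
import Groth.Agent.S0567

/-! Descent of flatness from a point over a dominating local domain, normal base. -/

set_option autoImplicit false
set_option backward.isDefEq.respectTransparency false
set_option backward.isDefEq.respectTransparency.types false
set_option maxHeartbeats 1000000
set_option linter.all false
universe u

open CategoryTheory CategoryTheory.Limits AlgebraicGeometry IsLocalRing TensorProduct

noncomputable section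

namespace UnibFlatLib

/-- A domain of finite type over the integers has finite normalisation. -/
theorem finite_normalization (C : Type u) [CommRing C] [IsDomain C] [Algebra.FiniteType ℤ C] :
    Module.Finite C (integralClosure C (FractionRing C)) := by
  let Z := ULift.{u} ℤ
  letI : Algebra Z C := ((Int.castRingHom C).comp ULift.ringEquiv.toRingHom).toAlgebra
  haveI : Algebra.FiniteType Z C := RingHom.finiteType_algebraMap.1
    (RingHom.FiniteType.of_comp_finiteType (f := (ULift.ringEquiv.symm.toRingHom : ℤ →+* Z)) (g := algebraMap Z C)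
      (by
        rw [RingHom.ext_int ((algebraMap Z C).comp _) (algebraMap ℤ C)]
        exact RingHom.finiteType_algebraMap.2 inferInstance))
  haveI : IsPrincipalIdealRing Z :=
    IsPrincipalIdealRing.of_surjective (ULift.ringEquiv.symm.toRingHom : ℤ →+* Z) ULift.ringEquiv.symm.surjective
  haveI : IsDomain Z := (ULift.ringEquiv : Z ≃+* ℤ).injective.isDomain (ULift.ringEquiv : Z ≃+* ℤ).toRingHom
  haveI : CharZero Z := charZero_of_injective_ringHom
    (show Function.Injective (ULift.ringEquiv.symm.toRingHom : ℤ →+* Z) from ULift.ringEquiv.symm.injective)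
  have h := ((Groth.Agent.S0567.result Z).1 (Groth.Agent.S2656.result Z)).2 C inferInstance
  exact h (FractionRing C) (Module.Finite.self _)

/-- The map from the integral closure into an integrally closed overring. -/
theorem exists_closureHom {A A₀ F K : Type u} [CommRing A] [IsDomain A] [IsIntegrallyClosed A] [CommRing A₀]
    [IsDomain A₀] [Algebra A₀ A] [Field F] [Algebra A₀ F] [IsFractionRing A₀ F] [Field K] [Algebra A K]
    [IsFractionRing A K] (hA₀ : Function.Injective (algebraMap A₀ A)) :
    ∃ θ₁ : integralClosure A₀ F →+* A,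
      Function.Injective θ₁ ∧ θ₁.comp (algebraMap A₀ (integralClosure A₀ F)) = algebraMap A₀ A := by
  have hK := IsFractionRing.injective A K
  have hAK : Function.Injective ((algebraMap A K).comp (algebraMap A₀ A)) := hK.comp hA₀
  obtain ⟨γ, hγ⟩ : ∃ γ : F →+* K, ∀ a, γ (algebraMap A₀ F a) = algebraMap A K (algebraMap A₀ A a) :=
    ⟨IsFractionRing.lift hAK, fun a => IsFractionRing.lift_algebraMap hAK a⟩
  have hcomp : (algebraMap A K).comp (algebraMap A₀ A) = γ.comp (algebraMap A₀ F) :=
    RingHom.ext fun a => (hγ a).symm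
  have hmem : ∀ r : integralClosure A₀ F, ∃ c : A, algebraMap A K c = γ r.1 := fun r => by
    obtain ⟨pl, hm, he⟩ := (r.2 : IsIntegral A₀ (r.1 : F))
    have hint : IsIntegral A (γ r.1) := by
      refine ⟨pl.map (algebraMap A₀ A), hm.map _, ?_⟩
      rw [Polynomial.eval₂_map, hcomp, ← Polynomial.hom_eval₂, he, map_zero]
    exact (IsIntegrallyClosed.isIntegral_iff (R := A) (K := K)).1 hint
  choose c hc using hmem
  let θ₁ : integralClosure A₀ F →+* A :=
    { toFun := c
      map_one' := hK (by rw [hc, map_one, OneMemClass.coe_one, map_one])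
      map_mul' := fun x y => hK (by rw [map_mul, hc, hc, hc, MulMemClass.coe_mul, map_mul])
      map_zero' := hK (by rw [hc, map_zero, ZeroMemClass.coe_zero, map_zero])
      map_add' := fun x y => hK (by rw [map_add, hc, hc, hc, AddMemClass.coe_add, map_add]) }
  refine ⟨θ₁, fun x y h => ?_, RingHom.ext fun a => hK ?_⟩
  · exact Subtype.ext (γ.injective ((hc x).symm.trans ((congrArg (algebraMap A K) h).trans (hc y))))
  · exact (hc _).trans (hγ a)

/-- The normalisation of a finitely generated subring inside an integrally closed domain. -/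
theorem exists_normalization (A A₀ : Type u) [CommRing A] [IsDomain A] [IsIntegrallyClosed A] [CommRing A₀]
    [IsDomain A₀] [IsNoetherianRing A₀] [Algebra A₀ A] [Algebra.FiniteType ℤ A₀]
    (hA₀ : Function.Injective (algebraMap A₀ A)) :
    ∃ (R₁ : Type u) (_ : CommRing R₁) (_ : IsDomain R₁) (_ : IsIntegrallyClosed R₁) (_ : IsNoetherianRing R₁)
      (θ₁ : R₁ →+* A) (α : A₀ →+* R₁), Function.Injective θ₁ ∧ θ₁.comp α = algebraMap A₀ A := by
  haveI : Module.Finite A₀ (integralClosure A₀ (FractionRing A₀)) := finite_normalization A₀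
  haveI : IsNoetherianRing (integralClosure A₀ (FractionRing A₀)) := IsNoetherianRing.of_finite A₀ _
  haveI : IsIntegrallyClosed (integralClosure A₀ (FractionRing A₀)) :=
    integralClosure.isIntegrallyClosedOfFiniteExtension (FractionRing A₀)
  obtain ⟨θ₁, h1, h2⟩ := exists_closureHom (F := FractionRing A₀) (K := FractionRing A) hA₀
  exact ⟨integralClosure A₀ (FractionRing A₀), inferInstance, inferInstance, inferInstance, inferInstance, θ₁,
    algebraMap A₀ _, h1, h2⟩

/-- The local ring of the normalisation at the point below the closed point. -/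
theorem exists_local (A R₁ : Type u) [CommRing A] [IsLocalRing A] [CommRing R₁] [IsDomain R₁]
    [IsIntegrallyClosed R₁] [IsNoetherianRing R₁] (θ₁ : R₁ →+* A) (hθ₁ : Function.Injective θ₁) :
    ∃ (R : Type u) (_ : CommRing R) (_ : IsDomain R) (_ : IsIntegrallyClosed R) (_ : IsLocalRing R)
      (_ : IsNoetherianRing R) (θ : R →+* A) (_ : IsLocalHom θ) (α : R₁ →+* R),
      Function.Injective θ ∧ θ.comp α = θ₁ := by
  let m₁ := (maximalIdeal A).comap θ₁
  let R := Localization.AtPrime m₁
  have hu : ∀ y : m₁.primeCompl, IsUnit (θ₁ y) := fun y => by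
    by_contra h
    exact y.2 ((IsLocalRing.mem_maximalIdeal _).2 h)
  let θ : R →+* A := IsLocalization.lift hu
  haveI : IsDomain R := IsLocalization.isDomain_localization m₁.primeCompl_le_nonZeroDivisors
  haveI : IsIntegrallyClosed R := isIntegrallyClosed_of_isLocalization R m₁.primeCompl m₁.primeCompl_le_nonZeroDivisors
  haveI : IsNoetherianRing R := IsLocalization.isNoetherianRing m₁.primeCompl R inferInstance
  refine ⟨R, inferInstance, inferInstance, inferInstance, inferInstance, inferInstance, θ, ⟨fun x hx => ?_⟩,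
    algebraMap R₁ R, ?_, IsLocalization.lift_comp hu⟩
  · obtain ⟨y, s, rfl⟩ := IsLocalization.exists_mk'_eq m₁.primeCompl x
    have h : IsUnit (θ₁ y) := by
      have h1 := (IsLocalization.lift_mk'_spec (g := θ₁) hu y (θ (IsLocalization.mk' R y s)) s).1 rfl
      rw [h1]
      exact (hu s).mul hx
    exact (IsLocalization.AtPrime.isUnit_mk'_iff R m₁ y s).2 fun hy => (IsLocalRing.mem_maximalIdeal _).1 hy h
  · rw [injective_iff_map_eq_zero]
    intro x hx
    obtain ⟨y, s, rfl⟩ := IsLocalization.exists_mk'_eq m₁.primeCompl x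
    rw [IsLocalization.lift_mk'_spec, mul_zero] at hx
    rw [hθ₁ (hx.trans (map_zero θ₁).symm), IsLocalization.mk'_zero]

/-- A Noetherian normal local model with a model of a finitely presented algebra. -/
theorem exists_model (A B : Type u) [CommRing A] [IsDomain A] [IsLocalRing A] [IsIntegrallyClosed A] [CommRing B]
    [Algebra A B] [Algebra.FinitePresentation A B] :
    ∃ (R B₀ : Type u) (_ : CommRing R) (_ : IsDomain R) (_ : IsIntegrallyClosed R) (_ : IsLocalRing R)
      (_ : IsNoetherianRing R) (θ : R →+* A) (_ : IsLocalHom θ) (_ : CommRing B₀) (β : R →+* B₀) (b : B₀ →+* B),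
      Function.Injective θ ∧ β.FiniteType ∧
        IsPushout (CommRingCat.ofHom θ) (CommRingCat.ofHom β) (CommRingCat.ofHom (algebraMap A B)) (CommRingCat.ofHom b) := by
  let P := Algebra.Presentation.ofFinitePresentation A B
  have hA₀ : Function.Injective (algebraMap P.Core A) := FaithfulSMul.algebraMap_injective P.Core A
  haveI : IsDomain P.Core := hA₀.isDomain _
  haveI : IsNoetherianRing P.Core := Algebra.FiniteType.isNoetherianRing ℤ P.Core
  obtain ⟨R₁, _, _, _, _, θ₁, α₁, hθ₁, hα₁⟩ := exists_normalization A P.Core hA₀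
  obtain ⟨R, _, _, _, _, _, θ, _, α, hθ, hα⟩ := exists_local A R₁ θ₁ hθ₁
  letI : Algebra R A := θ.toAlgebra
  letI : Algebra R B := ((algebraMap A B).comp θ).toAlgebra
  haveI : IsScalarTower R A B := IsScalarTower.of_algebraMap_eq' rfl
  letI : Algebra P.Core R := (α.comp α₁).toAlgebra
  haveI : IsScalarTower P.Core R A := IsScalarTower.of_algebraMap_eq' (by
    show _ = θ.comp (α.comp α₁)
    rw [← RingHom.comp_assoc, hα, hα₁])
  haveI : P.HasCoeffs R := Algebra.Presentation.HasCoeffs.of_isScalarTower (P := P) P.Core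
  let B₀ := P.ModelOfHasCoeffs R
  haveI : Algebra.FiniteType R B₀ := inferInstance
  let e : A ⊗[R] B₀ ≃ₐ[A] B := P.tensorModelOfHasCoeffsEquiv R
  refine ⟨R, B₀, inferInstance, inferInstance, inferInstance, inferInstance, inferInstance, θ, inferInstance,
    inferInstance, algebraMap R B₀,
    e.toRingEquiv.toRingHom.comp (Algebra.TensorProduct.includeRight (R := R) (A := A) (B := B₀)).toRingHom,
    hθ, RingHom.finiteType_algebraMap.2 inferInstance, ?_⟩
  exact (CommRingCat.isPushout_tensorProduct R A B₀).of_iso (Iso.refl _) (Iso.refl _) (Iso.refl _)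
      e.toRingEquiv.toCommRingCatIso (by rfl) (by rfl) (by ext x; exact e.commutes x) (by rfl)

theorem flatAt_normal_affine {A B V : Type u} [CommRing A] [IsDomain A] [IsLocalRing A] [IsIntegrallyClosed A]
    [CommRing B] [Algebra A B] [Algebra.FinitePresentation A B] [CommRing V] [IsDomain V] [IsLocalRing V]
    (φ : A →+* V) [IsLocalHom φ] (hφ : Function.Injective φ) {P : Scheme.{u}}
    {p : P ⟶ Spec (CommRingCat.of B)} {q : P ⟶ Spec (CommRingCat.of V)}
    (sq : IsPullback p q (Spec.map (CommRingCat.ofHom (algebraMap A B))) (Spec.map (CommRingCat.ofHom φ)))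
    (z : P) (hz : q z = closedPoint V) (hflat : FlatAt q z) :
    FlatAt (Spec.map (CommRingCat.ofHom (algebraMap A B))) (p z) := by
  obtain ⟨R, B₀, _, _, _, _, _, θ, _, _, β, b, hθ, hβ, hpo⟩ := exists_model A B
  haveI : IsNoetherianRing R := ‹_›
  let f₀ := Spec.map (CommRingCat.ofHom β)
  haveI : LocallyOfFiniteType f₀ := (HasRingHomProperty.Spec_iff (P := @LocallyOfFiniteType)).2 hβ
  haveI : LocallyOfFinitePresentation f₀ :=
    (HasRingHomProperty.Spec_iff (P := @LocallyOfFinitePresentation)).2
      ((RingHom.FinitePresentation.of_finiteType (f := β)).1 hβ)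
  have sqA : IsPullback (Spec.map (CommRingCat.ofHom b)) (Spec.map (CommRingCat.ofHom (algebraMap A B))) f₀
      (Spec.map (CommRingCat.ofHom θ)) := (isPullback_SpecMap_of_isPushout _ _ _ _ hpo).flip
  letI : Algebra R V := (φ.comp θ).toAlgebra
  let Sy := ConsLib.fgSys R V (Iso.refl (Spec (CommRingCat.of R)))
  have hs : Sy.s = Spec.map (CommRingCat.ofHom φ) ≫ Spec.map (CommRingCat.ofHom θ) := by
    show Spec.map (CommRingCat.ofHom (algebraMap R V)) ≫ 𝟙 _ = _
    rw [Category.comp_id, ← Spec.map_comp]
    rfl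
  have sqV : IsPullback (p ≫ Spec.map (CommRingCat.ofHom b)) q f₀ Sy.s := hs ▸ sq.paste_horiz sqA
  let zV : ↥(pullback f₀ Sy.s) := sqV.isoPullback.hom z
  haveI : Coh.IsQCoh (Coh.structureModule (Spec (CommRingCat.of B₀))) := QCohLib.isQCoh_unit
  have hzV : FlatMod.IsFlatOverAt (pullback.snd f₀ Sy.s)
      ((Scheme.Modules.pullback (pullback.fst f₀ Sy.s)).obj (Coh.structureModule _)) zV := by
    refine (flatAt_pullback_iff _ _ _).2 ((flatAt_openImmersion sqV.isoPullback.hom _ z).1 ?_)
    rw [sqV.isoPullback_hom_snd]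
    exact hflat
  obtain ⟨i, hi⟩ := (RichLib.ModFlat.isFlatOverAt_iff_exists_stage Sy f₀ (Coh.structureModule _)
    DepthLib.isFP_structureModule zV).1 hzV
  let W := i.unop.1
  haveI : Algebra.FiniteType R W := ⟨(Subalgebra.fg_top _).mpr i.unop.2⟩
  haveI : IsNoetherianRing W := Algebra.FiniteType.isNoetherianRing R W
  let v : W →+* V := W.val.toRingHom
  let m := (maximalIdeal V).comap v
  let R' := Localization.AtPrime m
  haveI : IsNoetherianRing R' := IsLocalization.isNoetherianRing m.primeCompl R' inferInstance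
  let ψ : R →+* R' := (algebraMap W R').comp (algebraMap R W)
  have hu : ∀ y : m.primeCompl, IsUnit (v y) := fun y => by
    by_contra h
    exact y.2 ((IsLocalRing.mem_maximalIdeal _).2 h)
  let v' : R' →+* V := IsLocalization.lift hu
  haveI : IsLocalHom v' := ⟨fun x hx => by
    obtain ⟨y, s, rfl⟩ := IsLocalization.exists_mk'_eq m.primeCompl x
    have h : IsUnit (v y) := by
      have h1 := (IsLocalization.lift_mk'_spec (g := v) hu y (v' (IsLocalization.mk' R' y s)) s).1 rfl
      rw [h1]
      exact (hu s).mul hx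
    exact (IsLocalization.AtPrime.isUnit_mk'_iff R' m y s).2 fun hy => (IsLocalRing.mem_maximalIdeal _).1 hy h⟩
  have hv'ψ : v'.comp ψ = φ.comp θ := RingHom.ext fun r => by
    show v' (algebraMap W R' (algebraMap R W r)) = _
    rw [IsLocalization.lift_eq hu]
    rfl
  haveI : IsLocalHom (v'.comp ψ) := by rw [hv'ψ]; infer_instance
  haveI : IsLocalHom ψ := isLocalHom_of_comp ψ v'
  have hψ : Function.Injective ψ := Function.Injective.of_comp (f := v') (by
    rw [← RingHom.coe_comp, hv'ψ]
    exact hφ.comp hθ)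
  let gW := Spec.map (CommRingCat.ofHom (algebraMap W R'))
  have hψt : gW ≫ Sy.t i = Spec.map (CommRingCat.ofHom ψ) := by
    show gW ≫ Spec.map (CommRingCat.ofHom (algebraMap R W)) ≫ 𝟙 _ = _
    rw [Category.comp_id, ← Spec.map_comp]
    rfl
  let gv := Spec.map (CommRingCat.ofHom v')
  have hgv : gv ≫ Spec.map (CommRingCat.ofHom ψ) = Sy.s := by
    rw [hs, ← Spec.map_comp, ← Spec.map_comp, ← CommRingCat.ofHom_comp, ← CommRingCat.ofHom_comp, hv'ψ]
  obtain ⟨j, hj1, hj2⟩ := sq_factor (IsPullback.of_hasPullback f₀ Sy.s) gv hgv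
  obtain ⟨k, hk1, hk2⟩ := sq_factor (IsPullback.of_hasPullback f₀ (Spec.map (CommRingCat.ofHom ψ))) gW hψt
  have hpb : RichLib.LimBC.pbπ Sy f₀ i = j ≫ k := by
    apply pullback.hom_ext
    · rw [Category.assoc, hk1, hj1]
      exact RichLib.LimBC.pbπ_fst Sy f₀ i
    · rw [Category.assoc, hk2.w, ← Category.assoc, hj2.w, Category.assoc]
      refine (RichLib.LimBC.pbπ_snd Sy f₀ i).trans (congrArg (pullback.snd f₀ Sy.s ≫ ·) ?_)
      show Spec.map (CommRingCat.ofHom v) = _
      rw [← Spec.map_comp, ← CommRingCat.ofHom_comp]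
      exact congrArg (fun w => Spec.map (CommRingCat.ofHom w))
        (RingHom.ext fun y => (IsLocalization.lift_eq hu y).symm)
  rw [hpb, Scheme.Hom.comp_apply] at hi
  have hz' : FlatAt (pullback.snd f₀ (Spec.map (CommRingCat.ofHom ψ))) (j zV) :=
    flatAt_bc hk2 _ ((flatAt_pullback_iff _ _ _).1 hi)
  have hzclosed : pullback.snd f₀ (Spec.map (CommRingCat.ofHom ψ)) (j zV) = closedPoint R' := by
    have h1 : pullback.snd f₀ Sy.s zV = closedPoint V := by
      refine Eq.trans ?_ hz
      exact congr($(sqV.isoPullback_hom_snd) z)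
    rw [← Scheme.Hom.comp_apply, hj2.w, Scheme.Hom.comp_apply]
    exact (congrArg gv h1).trans (closedPt_of_local v')
  have h := flatAt_noetherian ψ hψ f₀ (IsPullback.of_hasPullback _ _) (j zV) hzclosed hz'
  refine flatAt_bc sqA (p z) ?_
  have he : pullback.fst f₀ (Spec.map (CommRingCat.ofHom ψ)) (j zV) = Spec.map (CommRingCat.ofHom b) (p z) := by
    rw [← Scheme.Hom.comp_apply, hj1]
    exact congr($(sqV.isoPullback_hom_fst) z)
  exact he ▸ h

theorem flatAt_normal {A V : Type u} [CommRing A] [IsDomain A] [IsLocalRing A] [IsIntegrallyClosed A]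
    [CommRing V] [IsDomain V] [IsLocalRing V]
    (φ : A →+* V) [IsLocalHom φ] (hφ : Function.Injective φ) {X P : Scheme.{u}} (f : X ⟶ Spec (CommRingCat.of A))
    [LocallyOfFinitePresentation f] {p : P ⟶ X} {q : P ⟶ Spec (CommRingCat.of V)}
    (sq : IsPullback p q f (Spec.map (CommRingCat.ofHom φ)))
    (z : P) (hz : q z = closedPoint V) (hflat : FlatAt q z) : FlatAt f (p z) := by
  obtain ⟨U, hU, hxU, -⟩ := exists_isAffineOpen_mem_and_subset (x := p z) (U := ⊤) trivial
  let f' : Spec Γ(X, U) ⟶ Spec (CommRingCat.of A) := hU.fromSpec ≫ f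
  obtain ⟨γ, hγ⟩ : ∃ γ, Spec.map γ = f' := Spec.map_surjective f'
  letI : Algebra A Γ(X, U) := γ.hom.toAlgebra
  haveI : LocallyOfFinitePresentation (Spec.map γ) := by
    rw [hγ]; exact MorphismProperty.comp_mem _ _ _ inferInstance ‹_›
  haveI : Algebra.FinitePresentation A Γ(X, U) :=
    (HasRingHomProperty.Spec_iff (P := @LocallyOfFinitePresentation)).1 ‹LocallyOfFinitePresentation (Spec.map γ)›
  obtain ⟨y, hy⟩ : p z ∈ Set.range hU.fromSpec := by rw [hU.range_fromSpec]; exact hxU
  let P' := pullback hU.fromSpec p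
  obtain ⟨w, hw1, hw2⟩ := exists_pt (IsPullback.of_hasPullback hU.fromSpec p) y z hy
  have sq' : IsPullback (pullback.fst hU.fromSpec p) (pullback.snd hU.fromSpec p ≫ q) (Spec.map γ)
      (Spec.map (CommRingCat.ofHom φ)) := by
    rw [hγ]
    exact (IsPullback.of_hasPullback hU.fromSpec p).paste_vert sq
  have h := flatAt_normal_affine (A := A) (B := Γ(X, U)) φ hφ sq' w
    (by rw [Scheme.Hom.comp_apply, hw2]; exact hz)
    ((flatAt_openImmersion (pullback.snd hU.fromSpec p) q w).2 (hw2.symm ▸ hflat))
  change FlatAt (Spec.map γ) _ at h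
  rw [hγ, hw1] at h
  rw [← hy]
  exact (flatAt_openImmersion hU.fromSpec f y).1 h

end UnibFlatLib
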